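import Groth.Agent.EtShriekMod.Pieces
import Groth.Agent.EtFound.ExtZeroConstr
import Groth.Agent.SGA4hExtZ.Cover

/-!
# Constructible sheaves of modules as quotients of sums of `j_! Λ`
-/

universe u

open CategoryTheory CategoryTheory.Limits AlgebraicGeometry Opposite Topology TopologicalSpace

namespace Groth.Agent.EtShriekMod

set_option backward.isDefEq.respectTransparency.types false

open EtFound hiding IsPiece exists_piece_of_good isConstructible_of_pieces adaptedStrata_of_cover bijective_extZero_sum exists_piece_extZero isConstructible_extZero isConstructible_of_iso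

variable {Λ : Type (u + 1)} [CommRing Λ] [IsNoetherianRing Λ] {X : Scheme.{u}} [CompactSpace X]
  [QuasiSeparatedSpace X]

/-- near every point a constructible quotient is generated by finitely many sections over an affine etale scheme -/
theorem exists_generators {A B : EtModW.Mod Λ X} (v : A ⟶ B) [Epi v] (hB : EtModW.IsConstructible Λ B) (x : X) :
    ∃ (P : X.Etale) (_ : IsAffine P.left) (n : ℕ) (e : Fin n → A.obj.obj (op P)) (E : Set X),
      IsConstructible E ∧ x ∈ E ∧ ∀ (k : Type u) [Field k] [IsAlgClosed k] (η : Spec (CommRingCat.of k) ⟶ X),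
        η.base (default : Spec (CommRingCat.of k)) ∈ E → ∃ z : (Scheme.pointSmallEtale η).fiber.obj P,
          Submodule.span Λ (Set.range fun i => (Scheme.pointSmallEtale η).toPresheafFiber P z B.obj
            (v.hom.app (op P) (e i))) = ⊤ := by
  obtain ⟨W, A₀, hA₀, p, M, hM, φ, Good, hGood, hpG, hpx, hgood⟩ := exists_good hB x
  obtain ⟨Ω, _, _, ξ, hξ⟩ := EtModLC71.exists_point x
  obtain ⟨w, hw⟩ := Scheme.pointSmallEtaleFiberObjToPreimage_surjective ξ rfl W ⟨p.1, hpx.trans hξ.symm⟩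
  have hwp : ptOf w = p.1 := congrArg Subtype.val hw
  obtain ⟨n, m, hm⟩ := Module.Finite.exists_fin (R := Λ) (M := M)
  obtain ⟨V, r, w', e, hrw, he⟩ := EtModLC71.exists_lift_family v ξ w n (fun i => φ (m i))
  have : AlgebraicGeometry.Etale V.hom := V.prop
  let rl : V.left ⟶ W.left := r.left
  have hp' : rl.base (ptOf w') ∈ A₀ := by
    rw [show rl.base (ptOf w') = p.1 from (ptOf_map r w').symm.trans ((congrArg ptOf hrw).trans hwp)]
    exact p.2
  obtain ⟨A', hA', hpA', hA'le⟩ := exists_isAffineOpen_mem_and_subset (U := rl ⁻¹ᵁ A₀) hp'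
  have : IsAffine A'.toScheme := hA'
  have : AlgebraicGeometry.Etale (A'.ι ≫ V.hom) := inferInstance
  let P : X.Etale := Scheme.Etale.mk (A'.ι ≫ V.hom)
  let q : P ⟶ V := MorphismProperty.Over.homMk A'.ι rfl
  let G' : Set ↥(A' : Set V.left) := Subtype.val ⁻¹' (rl.base ⁻¹' (Subtype.val '' Good))
  have hG' : IsConstructible G' := by
    refine isConstructible_preimage_affine rl hA' hA₀ hA'le ?_
    rw [Set.preimage_image_eq _ Subtype.val_injective]
    exact hGood
  let k₀ : A'.toScheme ⟶ X := A'.ι ≫ V.hom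
  have : QuasiCompact k₀ := quasiCompact_of_compactSpace k₀
  refine ⟨P, inferInstanceAs (IsAffine A'.toScheme), n, fun i => A.obj.map q.op (e i), k₀.base '' G',
    k₀.isConstructible_image hG', ?_, ?_⟩
  · refine ⟨⟨ptOf w', hpA'⟩, ⟨p, hpG, (hwp.symm.trans (congrArg ptOf hrw.symm)).trans (ptOf_map r w')⟩, ?_⟩
    show k₀.base ⟨ptOf w', hpA'⟩ = x
    refine (Scheme.Hom.comp_apply _ _ _).trans ?_
    exact (hom_ptOf w').trans hξ
  · intro k _ _ η ⟨a, ⟨g, hg, hga⟩, hae⟩
    obtain ⟨z, hz⟩ := Scheme.pointSmallEtaleFiberObjToPreimage_surjective η rfl P ⟨a, hae⟩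
    have hza : ptOf z = a := congrArg Subtype.val hz
    refine ⟨z, ?_⟩
    let zW := (Scheme.pointSmallEtale η).fiber.map (q ≫ r) z
    let germ := (φ ≫ (Scheme.pointSmallEtale η).toPresheafFiber W zW B.obj).hom
    have hb : Function.Bijective germ := hgood k η zW ⟨g, hg, hga.trans (by
      refine Eq.trans ?_ (ptOf_map (q ≫ r) z).symm
      rw [hza]
      rfl)⟩
    have hgen : ∀ i, (Scheme.pointSmallEtale η).toPresheafFiber P z B.obj (v.hom.app (op P) (A.obj.map q.op (e i))) =
        germ (m i) := fun i => by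
      rw [NatTrans.naturality_apply v.hom q.op (e i), he]
      show (Scheme.pointSmallEtale η).toPresheafFiber P z B.obj (B.obj.map q.op (B.obj.map r.op (φ (m i)))) =
        (Scheme.pointSmallEtale η).toPresheafFiber W zW B.obj (φ (m i))
      rw [← Functor.map_comp_apply, ← op_comp, (Scheme.pointSmallEtale η).toPresheafFiber_w_apply]
    simp only [hgen]
    rw [show (fun i => germ (m i)) = germ ∘ m from rfl, Set.range_comp, Submodule.span_image, hm, Submodule.map_top,
      LinearMap.range_eq_top.2 hb.2]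

/-- a constructible quotient of `A` is covered by a finite sum of `j_! Λ` mapping to `A` -/
theorem exists_cover_qcqs {A B : EtModW.Mod Λ X} (v : A ⟶ B) [Epi v] (hB : EtModW.IsConstructible Λ B) :
    ∃ (m : ℕ) (U : Fin m → Scheme.{u}) (j : ∀ k, U k ⟶ X) (_ : ∀ k, Etale (j k)) (_ : ∀ k, IsAffine (U k)),
      ∀ [∀ k, EtShriek.JCont (j k)], ∃ w : (∐ fun k => (EtSix.extZeroMod Λ (j k)).obj (EtSix.constΛ Λ (U k))) ⟶ A,
        Epi (w ≫ v) := by
  choose P hP n e E hE hxE hspan using exists_generators v hB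
  obtain ⟨t, ht⟩ := EtFound.exists_finite_cover E hE fun x => ⟨x, hxE x⟩
  let κ := Σ x : t, Fin (n x.1)
  let ν : Fin (Fintype.card κ) ≃ κ := (Fintype.equivFin κ).symm
  refine ⟨Fintype.card κ, fun k => (P (ν k).1.1).left, fun k => (P (ν k).1.1).hom, fun k => (P (ν k).1.1).prop,
    fun k => hP _, ?_⟩
  intro hJ
  have : ∀ k, AlgebraicGeometry.Etale (P (ν k).1.1).hom := fun k => (P (ν k).1.1).prop
  have : ∀ k, EtShriek.JCont (P (ν k).1.1).hom := hJ
  have hsec : ∀ k, ∃ h : (EtSix.extZeroMod Λ (P (ν k).1.1).hom).obj (EtSix.constΛ Λ (P (ν k).1.1).left) ⟶ A,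
      ∀ (Ω : Type u) [Field Ω] [IsSepClosed Ω] (η : Spec (CommRingCat.of Ω) ⟶ X)
        (z : (Scheme.pointSmallEtale η).fiber.obj (P (ν k).1.1)),
        ∃ d, (EtModW.stalk Λ η).map h d =
          (Scheme.pointSmallEtale η).toPresheafFiber (P (ν k).1.1) z A.obj (e (ν k).1.1 (ν k).2) := by
    intro k
    let W := P (ν k).1.1
    have : AlgebraicGeometry.Etale W.hom := W.prop
    have : EtShriek.JCont W.hom := hJ k
    let Q : X.Etale := (EtShriek.compEtale W.hom).obj (EtCoh.top W.left)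
    let r : Q ⟶ W := MorphismProperty.Over.homMk (𝟙 W.left) rfl
    obtain ⟨η₀, hη₀⟩ := SGA4hExtZ.exists_taut (Λ := Λ) W.hom
    obtain ⟨h, he⟩ := hη₀ A (ModuleCat.ofHom (LinearMap.toSpanSingleton Λ _ (A.obj.map r.op (e _ (ν k).2))))
    have e1 := SGA4hExtZ.apply_one η₀ (h.hom.app (op Q)) _ he
    refine ⟨h, fun Ω _ _ η z => ?_⟩
    let u : (Scheme.pointSmallEtale η).fiber.obj Q :=
      CategoryTheory.Over.homMk (z.left : Spec (CommRingCat.of Ω) ⟶ W.left)
        ((congrArg ((z.left : Spec (CommRingCat.of Ω) ⟶ W.left) ≫ ·) (Category.id_comp W.hom)).trans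
          (CategoryTheory.Over.w z))
    have hu : (Scheme.pointSmallEtale η).fiber.map r u = z :=
      CategoryTheory.Over.OverMorphism.ext (Category.comp_id _)
    refine ⟨(Scheme.pointSmallEtale η).toPresheafFiber Q u
      ((EtSix.extZeroMod Λ W.hom).obj (EtSix.constΛ Λ W.left)).obj (η₀ (1 : Λ)), ?_⟩
    refine ((Scheme.pointSmallEtale η).toPresheafFiber_naturality_apply h.hom Q u (η₀ (1 : Λ))).trans ?_
    rw [e1, (Scheme.pointSmallEtale η).toPresheafFiber_w_apply, hu]
  choose h hh using hsec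
  refine ⟨Sigma.desc h, (EtModLC71.epi_iff_stalks _).2 fun Ω _ _ η₁ => ?_⟩
  obtain ⟨x, hxt, hxη⟩ := ht (η₁.base (default : Spec (CommRingCat.of Ω)))
  obtain ⟨K, _, _, η, hη⟩ := EtModLC71.exists_point (η₁.base (default : Spec (CommRingCat.of Ω)))
  obtain ⟨z, hz⟩ := hspan x K η (hη ▸ hxη)
  have hs : Function.Surjective ((EtModW.stalk Λ η).map (Sigma.desc h ≫ v)) := by
    refine LinearMap.range_eq_top.1 (eq_top_iff.2 (hz.ge.trans (Submodule.span_le.2 ?_)))
    rintro _ ⟨i, rfl⟩
    obtain ⟨k, hk⟩ := ν.surjective ⟨⟨x, hxt⟩, i⟩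
    obtain ⟨d, hd⟩ : ∃ d, (EtModW.stalk Λ η).map (Sigma.desc h) d =
        (Scheme.pointSmallEtale η).toPresheafFiber (P x) z A.obj (e x i) := by
      have key : ∀ (y : κ) (hy : ν k = y) (z : (Scheme.pointSmallEtale η).fiber.obj (P y.1.1)),
          ∃ d, (EtModW.stalk Λ η).map (Sigma.desc h) d =
            (Scheme.pointSmallEtale η).toPresheafFiber (P y.1.1) z A.obj (e y.1.1 y.2) := by
        rintro _ rfl z
        obtain ⟨d, hd⟩ := hh k K η z
        refine ⟨(EtModW.stalk Λ η).map (Sigma.ι _ k) d, ?_⟩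
        rw [← ConcreteCategory.comp_apply, ← Functor.map_comp, Sigma.ι_desc]
        exact hd
      exact key ⟨⟨x, hxt⟩, i⟩ hk z
    refine ⟨d, ?_⟩
    show (EtModW.stalk Λ η).map (Sigma.desc h ≫ v) d = _
    rw [Functor.map_comp, ConcreteCategory.comp_apply, hd]
    exact EtModLC71.germ_naturality v z _
  obtain ⟨i⟩ := EtModLC71.nonempty_stalk_iso (Λ := Λ) η₁ η hη.symm
  intro c
  obtain ⟨d, hd⟩ := hs (i.hom.app B c)
  refine ⟨i.inv.app _ d, ?_⟩
  have := ConcreteCategory.congr_hom (i.inv.naturality (Sigma.desc h ≫ v)) d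
  refine (ConcreteCategory.comp_apply _ _ _).symm.trans (this.symm.trans ?_)
  rw [ConcreteCategory.comp_apply, hd]
  exact ConcreteCategory.congr_hom (i.hom_inv_id_app B) c

end Groth.Agent.EtShriekMod
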