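import Groth.Agent.EtModLC71.Generic
import Groth.Agent.EtFound.Crit
import Groth.Agent.H23.RedSub

/-!
# Sheaves of modules: constant families and constructible pieces
-/

universe u

open CategoryTheory CategoryTheory.Limits AlgebraicGeometry Opposite Topology

namespace Groth.Agent.EtShriekMod

set_option backward.isDefEq.respectTransparency.types false

open EtFound EtModLC71

variable {Λ : Type (u + 1)} [CommRing Λ] {X : Scheme.{u}}

/-- bijective germs over the image give a constant family for the inverse image -/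
theorem constBy_pull_of_range {T : Scheme.{u}} (g : T ⟶ X) {F : EtModW.Mod Λ X} {U : X.Etale}
    {M : ModuleCat.{u + 1} Λ} (φ : M ⟶ F.obj.obj (op U))
    (h : ∀ (k : Type u) [Field k] [IsAlgClosed k] (η : Spec (CommRingCat.of k) ⟶ X)
      (z : (Scheme.pointSmallEtale η).fiber.obj U), U.hom.base (ptOf z) ∈ Set.range g.base →
        Function.Bijective (φ ≫ (Scheme.pointSmallEtale η).toPresheafFiber U z F.obj)) :
    ConstBy ((EtModW.pull Λ g).obj F) (U := (EtCoh.bc g).obj U)
      (φ ≫ ((pullPushMod g).unit.app F).hom.app (op U)) := by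
  intro Ω _ _ ξ t
  let i := (sheafFiberPullIso (A := ModuleCat.{u + 1} Λ) g ξ).app F
  have hb : Function.Bijective i.inv := (ConcreteCategory.isIso_iff_bijective i.inv).1 inferInstance
  have e : ∀ m, i.inv ((φ ≫ (Scheme.pointSmallEtale (ξ ≫ g)).toPresheafFiber U (bcFiberEquiv g ξ U t) F.obj) m) =
      ((φ ≫ ((pullPushMod g).unit.app F).hom.app (op U)) ≫
        (Scheme.pointSmallEtale ξ).toPresheafFiber ((EtCoh.bc g).obj U) t ((EtModW.pull Λ g).obj F).obj) m := fun m => by
    refine (ConcreteCategory.comp_apply _ _ m).symm.trans (ConcreteCategory.congr_hom ?_ m)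
    exact (Category.assoc _ _ _).trans ((congrArg (φ ≫ ·) (sheafFiberPullIso_germ g ξ F U t)).trans
      (Category.assoc _ _ _).symm)
  have hp : U.hom.base (ptOf (bcFiberEquiv g ξ U t)) ∈ Set.range g.base :=
    ⟨ξ.base (default : Spec (CommRingCat.of Ω)), (Scheme.Hom.comp_apply _ _ _).symm.trans (hom_ptOf _).symm⟩
  exact Eq.mp (congrArg Function.Bijective (funext e)) (hb.comp (h Ω (ξ ≫ g) _ hp))

/-- a family inducing the stalks along a constructible neighbourhood of a point gives a constructible piece -/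
theorem exists_piece_of_good {F : EtModW.Mod Λ X} {V : X.Opens} (hV : IsAffineOpen V) {U : X.Etale} {Ω : Type u}
    [Field Ω] [IsSepClosed Ω] {ξ : Spec (CommRingCat.of Ω) ⟶ X} (u : (Scheme.pointSmallEtale ξ).fiber.obj U)
    {A : U.left.Opens} (hA : IsAffineOpen A) (hAV : A ≤ U.hom ⁻¹ᵁ V) (hpA : ptOf u ∈ A)
    {M : ModuleCat.{u + 1} Λ} [Module.Finite Λ M] (φ : M ⟶ F.obj.obj (op U))
    {Good : Set ↥(A : Set U.left)} (hGood : IsConstructible Good) (hpGood : (⟨ptOf u, hpA⟩ : ↥(A : Set U.left)) ∈ Good)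
    (hgood : ∀ {k : Type u} [Field k] [IsAlgClosed k] {η : Spec (CommRingCat.of k) ⟶ X}
      (z : (Scheme.pointSmallEtale η).fiber.obj U), (∃ a ∈ Good, a.1 = ptOf z) →
        Function.Bijective (φ ≫ (Scheme.pointSmallEtale η).toPresheafFiber U z F.obj)) :
    ∃ E : Set X, ξ.base (default : Spec (CommRingCat.of Ω)) ∈ E ∧ IsPiece F E ∧
      IsConstructible ((Subtype.val : ↥(V : Set X) → X) ⁻¹' E) := by
  have : AlgebraicGeometry.Etale U.hom := U.prop
  have : CompactSpace ↥(A : Set U.left) := isCompact_iff_compactSpace.1 hA.isCompact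
  have : QuasiSeparatedSpace ↥(A : Set U.left) :=
    (isQuasiSeparated_iff_quasiSeparatedSpace _ A.2).1 hA.isQuasiSeparated
  have : PrespectralSpace ↥(A : Set U.left) := A.2.isOpenEmbedding_subtypeVal.prespectralSpace
  have : QuasiSober ↥(A : Set U.left) := A.2.isOpenEmbedding_subtypeVal.quasiSober
  have : CompactSpace ↥(V : Set X) := isCompact_iff_compactSpace.1 hV.isCompact
  have : QuasiSeparatedSpace ↥(V : Set X) := (isQuasiSeparated_iff_quasiSeparatedSpace _ V.2).1 hV.isQuasiSeparated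
  have : PrespectralSpace ↥(V : Set X) := V.2.isOpenEmbedding_subtypeVal.prespectralSpace
  have : QuasiSober ↥(V : Set X) := V.2.isOpenEmbedding_subtypeVal.quasiSober
  let val : ↥(A : Set U.left) → U.left := Subtype.val
  let π : ↥(A : Set U.left) → ↥(V : Set X) := fun a => ⟨U.hom.base a.1, hAV a.2⟩
  have hπ : Continuous π := (U.hom.continuous.comp continuous_subtype_val).subtype_mk _
  let p : ↥(A : Set U.left) := ⟨ptOf u, hpA⟩
  -- an open of `A` meeting the fibre only in the point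
  have hfib : (π ⁻¹' {π p} \ {p}).Finite := by
    have : IsAffine A.toScheme := hA
    have : IsAffine V.toScheme := hV
    let f : A.toScheme ⟶ V.toScheme := Scheme.Hom.resLE U.hom V A hAV
    have hf : LocallyQuasiFinite f := by
      rw [HasRingHomProperty.iff_appLE (P := @LocallyQuasiFinite)]
      intro U₀ W₀ e'
      have := HasRingHomProperty.appLE @AlgebraicGeometry.Etale f inferInstance U₀ W₀ e'
      algebraize [(f.appLE U₀.1 W₀.1 e').hom]
      exact (inferInstance : Algebra.QuasiFinite Γ(V.toScheme, U₀.1) Γ(A.toScheme, W₀.1))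
    have : QuasiCompact f := (quasiCompact_iff_compactSpace f).2 inferInstance
    refine (f.finite_preimage_singleton (π p)).subset fun q hq => ?_
    refine Set.mem_singleton_iff.2 (Subtype.ext ?_)
    refine Eq.trans ?_ (congrArg Subtype.val hq.1)
    show V.ι.base (f.base q) = U.hom.base q.1
    rw [← Scheme.Hom.comp_apply, Scheme.Hom.resLE_comp_ι]
    exact Scheme.Hom.comp_apply _ _ _
  have hsep : ∀ q ∈ π ⁻¹' {π p} \ {p}, ∃ O : Set ↥(A : Set U.left), IsOpen O ∧ p ∈ O ∧ q ∉ O := fun q hq => by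
    by_contra h
    push Not at h
    have hs : val q ⤳ val p := (specializes_iff_forall_open.2 fun O hO hp => h O hO hp).map continuous_subtype_val
    exact hq.2 (Subtype.ext (eq_of_specializes U hs (congrArg Subtype.val hq.1)))
  choose! O hO hpO hqO using hsep
  obtain ⟨O', hO', hO'c, hpO', hO'O⟩ := SpecLib.exists_qc (x := p)
    (O := ⋂ q ∈ π ⁻¹' {π p} \ {p}, O q) (Set.mem_iInter₂.2 hpO) (hfib.isOpen_biInter hO)
  -- some constructible neighbourhood of the point pulls back into the good locus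
  obtain ⟨E, ⟨hEc, hElc, hyE⟩, hEgood⟩ : ∃ E : Set ↥(V : Set X),
      (IsConstructible E ∧ IsLocallyClosed E ∧ π p ∈ E) ∧ O' ∩ π ⁻¹' E ⊆ Good := by
    by_contra hno
    push Not at hno
    let I := {E : Set ↥(V : Set X) // IsConstructible E ∧ IsLocallyClosed E ∧ π p ∈ E}
    have : Nonempty I := ⟨⟨Set.univ, IsConstructible.univ, isOpen_univ.isLocallyClosed, trivial⟩⟩
    have hpre : ∀ E : I, IsConstructible (π ⁻¹' E.1) := fun E => by
      have h1 : IsConstructible ((Subtype.val : ↥(V : Set X) → X) ⁻¹' (Subtype.val '' E.1)) := by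
        rw [Set.preimage_image_eq _ Subtype.val_injective]
        exact E.2.1
      have h2 := isConstructible_preimage_affine U.hom hA hV hAV h1
      refine Eq.mp (congrArg IsConstructible ?_) h2
      ext a
      exact ⟨fun ⟨b, hb, e⟩ => show π a ∈ E.1 from Set.mem_of_eq_of_mem (Subtype.ext e.symm : π a = b) hb, fun ha => ⟨π a, ha, rfl⟩⟩
    obtain ⟨q, hq⟩ := SpecLib.CC.nonempty_iInter (fun E : I => (O' ∩ π ⁻¹' E.1) \ Good)
      (fun E E' => ⟨⟨E.1 ∩ E'.1, E.2.1.inter E'.2.1, E.2.2.1.inter E'.2.2.1, E.2.2.2, E'.2.2.2⟩,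
        fun a ha => ⟨⟨ha.1.1, ha.1.2.1⟩, ha.2⟩, fun a ha => ⟨⟨ha.1.1, ha.1.2.2⟩, ha.2⟩⟩)
      (fun E => by
        obtain ⟨a, ha, ha'⟩ := Set.not_subset.1 (hno E.1 E.2)
        exact ⟨a, ha, ha'⟩)
      (fun E => ((SpecLib.cc_of_isOpen_isCompact hO' hO'c).inter (SpecLib.cons_clopen (hpre E)).1).inter
        (SpecLib.cons_clopen hGood.compl).1)
    rw [Set.mem_iInter] at hq
    have hq0 := hq (Classical.arbitrary I)
    have hqp : π q = π p := by
      by_contra hne
      obtain ⟨W, hW, hWc, hWne⟩ := SpecLib.exists_qc_separating hne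
      have hWC := (IsCompact.isRetrocompact hWc hW).isConstructible hW
      by_cases hy : π p ∈ W
      · exact hWne (iff_of_true (hq ⟨W, hWC, hW.isLocallyClosed, hy⟩).1.2 hy)
      · exact (hq ⟨Wᶜ, hWC.compl, hW.isClosed_compl.isLocallyClosed, hy⟩).1.2
          (by_contra fun hq' => hWne (iff_of_false hq' hy))
    by_cases hqe : q = p
    · exact hq0.2 (hqe ▸ hpGood)
    · exact hqO q ⟨hqp, hqe⟩ (Set.mem_iInter₂.1 (hO'O hq0.1.1) q ⟨hqp, hqe⟩)
  -- the stratum
  let W : U.left.Opens := ⟨val '' O', A.2.isOpenMap_subtype_val _ hO'⟩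
  let E' : Set X := Subtype.val '' E ∩ U.hom.base '' (W : Set U.left)
  have hlc : IsLocallyClosed E' :=
    (hElc.image IsInducing.subtypeVal (by rw [Subtype.range_coe]; exact V.2.isLocallyClosed)).inter
      (U.hom.isOpenMap (W : Set U.left) W.2).isLocallyClosed
  obtain ⟨T, g, hg, hr⟩ := EtFound.exists_immersion_range hlc
  refine ⟨E', ⟨⟨π p, hyE, hom_ptOf u⟩, ptOf u, ⟨p, hpO', rfl⟩, hom_ptOf u⟩, ⟨T, g, hg, hr, ?_⟩, ?_⟩
  · let U' : X.Etale := Scheme.Etale.mk (W.ι ≫ U.hom)
    let r : U' ⟶ U := MorphismProperty.Over.homMk W.ι rfl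
    have hC := constBy_pull_of_range g (F := F) (U := U') (φ ≫ F.obj.map r.op) fun k _ _ η z hz => by
      obtain ⟨a, ha, hae⟩ : ptOf ((Scheme.pointSmallEtale η).fiber.map r z) ∈ W := (ptOf_map r z).symm ▸ (ptOf z).2
      have hb := hgood ((Scheme.pointSmallEtale η).fiber.map r z) ⟨a, hEgood ⟨ha, ?_⟩, hae⟩
      · refine Eq.mp (congrArg Function.Bijective (funext fun m => ?_)) hb
        exact congrArg (fun k : F.obj.obj (op U) ⟶ _ => (φ ≫ k) m)
          ((Scheme.pointSmallEtale η).toPresheafFiber_w r z F.obj).symm |>.trans (by rw [Category.assoc])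
      · obtain ⟨b, hb, hbe⟩ := (hr.le hz).1
        have h1 : W.ι.base (ptOf z) = val a := (ptOf_map r z).symm.trans hae.symm
        have : b = π a := Subtype.ext (hbe.trans ((Scheme.Hom.comp_apply _ _ _).trans (congrArg U.hom.base h1)))
        show π a ∈ E
        exact this ▸ hb
    refine isFTLocConst_of_constBy fun t => ?_
    obtain ⟨q, hq, hqe⟩ := (hr.le ⟨t, rfl⟩).2
    obtain ⟨w, -, hw⟩ := Scheme.Pullback.exists_preimage_pullback (f := U'.hom) (g := g) (⟨q, hq⟩ : W.toScheme) t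
      ((Scheme.Hom.comp_apply _ _ _).trans hqe)
    exact ⟨_, w, M, inferInstance, _, hw, hC⟩
  · have hc' : IsCompact (π '' O') := hO'c.image hπ
    have ho' : IsOpen (π '' O') := by
      have h1 : π '' O' = Subtype.val ⁻¹' (U.hom.base '' (W : Set U.left)) := by
        ext b
        constructor
        · rintro ⟨a, ha, rfl⟩
          exact ⟨a.1, ⟨a, ha, rfl⟩, rfl⟩
        · rintro ⟨_, ⟨a, ha, rfl⟩, e⟩
          exact ⟨a, ha, Subtype.ext e⟩
      rw [h1]
      exact (U.hom.isOpenMap (W : Set U.left) W.2).preimage continuous_subtype_val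
    refine Eq.mp (congrArg IsConstructible ?_) (hEc.inter ((IsCompact.isRetrocompact hc' ho').isConstructible ho'))
    ext b
    constructor
    · rintro ⟨hb, a, ha, rfl⟩
      exact ⟨⟨π a, hb, rfl⟩, a.1, ⟨a, ha, rfl⟩, rfl⟩
    · rintro ⟨⟨b', hb', e⟩, _, ⟨a, ha, rfl⟩, e'⟩
      exact ⟨Subtype.ext e ▸ hb', a, ha, Subtype.ext e'⟩

/-- constructibility from constructible pieces through all points -/
theorem isConstructible_of_pieces {F : EtModW.Mod Λ X} (h : ∀ (V : X.Opens), IsAffineOpen V → ∀ y : X, y ∈ V →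
    ∃ E : Set X, y ∈ E ∧ IsPiece F E ∧ IsConstructible ((Subtype.val : ↥(V : Set X) → X) ⁻¹' E)) :
    EtModW.IsConstructible Λ F := by
  intro V hV
  have : CompactSpace ↥(V : Set X) := isCompact_iff_compactSpace.1 hV.isCompact
  have : QuasiSeparatedSpace ↥(V : Set X) := (isQuasiSeparated_iff_quasiSeparatedSpace _ V.2).1 hV.isQuasiSeparated
  have : PrespectralSpace ↥(V : Set X) := V.2.isOpenEmbedding_subtypeVal.prespectralSpace
  have : QuasiSober ↥(V : Set X) := V.2.isOpenEmbedding_subtypeVal.quasiSober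
  choose E hyE hE hEc using fun y : ↥(V : Set X) => h V hV y.1 y.2
  obtain ⟨t, ht⟩ := EtFound.exists_finite_cover (fun y => Subtype.val ⁻¹' E y) hEc fun y => ⟨y, hyE y⟩
  refine EtModLC71.adaptedStrata_of_cover V.2.isLocallyClosed (fun k : t => E k.1) (fun k => hE _) (fun k => hEc _)
    fun x hx => ?_
  obtain ⟨k, hk, hxk⟩ := ht ⟨x, hx⟩
  exact Set.mem_iUnion.2 ⟨⟨k, hk⟩, hxk⟩

/-- finitely many germs come from sections on one neighbourhood -/
theorem exists_sections_fin {F : EtModW.Mod Λ X} {Ω : Type u} [Field Ω] [IsSepClosed Ω]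
    (ξ : Spec (CommRingCat.of Ω) ⟶ X) :
    ∀ (n : ℕ) (c : Fin n → (EtModW.stalk Λ ξ).obj F), ∃ (W : X.Etale)
      (w : (Scheme.pointSmallEtale ξ).fiber.obj W) (e : Fin n → F.obj.obj (op W)),
      ∀ i, (Scheme.pointSmallEtale ξ).toPresheafFiber W w F.obj (e i) = c i
  | 0, _ => ⟨Scheme.Etale.mk (𝟙 X), CategoryTheory.Over.homMk ξ (Category.comp_id _), Fin.elim0, fun i => i.elim0⟩
  | n + 1, c => by
    obtain ⟨W, w, e, he⟩ := exists_sections_fin ξ n (c ∘ Fin.succ)
    obtain ⟨W', w', e', he'⟩ := (Scheme.pointSmallEtale ξ).toPresheafFiber_jointly_surjective (c 0)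
    obtain ⟨⟨T, t⟩, ⟨a, ha⟩, ⟨b, hb⟩, -⟩ := IsCofilteredOrEmpty.cone_objs
      ((Scheme.pointSmallEtale ξ).fiber.elementsMk W' w') ((Scheme.pointSmallEtale ξ).fiber.elementsMk W w)
    obtain ⟨a', ha'⟩ : ∃ a' : T ⟶ W', (Scheme.pointSmallEtale ξ).fiber.map a' t = w' := ⟨a, ha⟩
    obtain ⟨b', hb'⟩ : ∃ b' : T ⟶ W, (Scheme.pointSmallEtale ξ).fiber.map b' t = w := ⟨b, hb⟩
    refine ⟨T, t, Fin.cons (F.obj.map a'.op e') (fun i => F.obj.map b'.op (e i)), Fin.cases ?_ fun i => ?_⟩
    · rw [Fin.cons_zero, (Scheme.pointSmallEtale ξ).toPresheafFiber_w_apply, ha']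
      exact he'
    · rw [Fin.cons_succ, (Scheme.pointSmallEtale ξ).toPresheafFiber_w_apply, hb']
      exact he i

/-- maps from finitely presented modules into stalks spread out -/
theorem exists_hom_lift [IsNoetherianRing Λ] {F : EtModW.Mod Λ X} {Ω : Type u} [Field Ω] [IsSepClosed Ω]
    (ξ : Spec (CommRingCat.of Ω) ⟶ X) {M : ModuleCat.{u + 1} Λ} [Module.Finite Λ M]
    (c : M ⟶ (EtModW.stalk Λ ξ).obj F) :
    ∃ (W : X.Etale) (w : (Scheme.pointSmallEtale ξ).fiber.obj W) (φ : M ⟶ F.obj.obj (op W)),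
      ∀ m, (Scheme.pointSmallEtale ξ).toPresheafFiber W w F.obj (φ m) = c m := by
  obtain ⟨n, s, hs⟩ := Module.Finite.exists_fin (R := Λ) (M := M)
  obtain ⟨W, w, e, he⟩ := exists_sections_fin ξ n (fun i => c (s i))
  let π : (Fin n → Λ) →ₗ[Λ] M := Fintype.linearCombination Λ s
  have hπ : Function.Surjective π := LinearMap.range_eq_top.1 ((Fintype.range_linearCombination Λ s).trans hs)
  let L₀ : (Fin n → Λ) →ₗ[Λ] F.obj.obj (op W) := Fintype.linearCombination Λ e
  let germ := ((Scheme.pointSmallEtale ξ).toPresheafFiber W w F.obj).hom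
  have hL₀ : ∀ l, germ (L₀ l) = c (π l) := fun l => by
    simp only [L₀, π, Fintype.linearCombination_apply, map_sum, map_smul]
    exact Finset.sum_congr rfl fun i _ => congrArg _ (he i)
  obtain ⟨k, r, hr⟩ := Module.Finite.exists_fin (R := Λ) (M := LinearMap.ker π)
  obtain ⟨V, g, v, hgv, hv⟩ := EtFound.exists_forall_eq F.obj w (fun i => L₀ (r i).1) (fun _ => 0) fun i => by
    refine (hL₀ _).trans ?_
    rw [(r i).2, map_zero]
    exact (map_zero germ).symm
  let L₁ : (Fin n → Λ) →ₗ[Λ] F.obj.obj (op V) := (F.obj.map g.op).hom.comp L₀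
  have hker : LinearMap.ker π ≤ LinearMap.ker L₁ := by
    intro l hl
    have h0 : ∀ x : LinearMap.ker π, (L₁.comp (LinearMap.ker π).subtype) x = 0 := by
      intro x
      have : L₁.comp (LinearMap.ker π).subtype = 0 :=
        LinearMap.ext_on_range hr fun i => (hv i).trans (map_zero (F.obj.map g.op).hom)
      rw [this, LinearMap.zero_apply]
    exact h0 ⟨l, hl⟩
  let eq := π.quotKerEquivOfSurjective hπ
  refine ⟨V, v, ModuleCat.ofHom (((LinearMap.ker π).liftQ L₁ hker).comp eq.symm.toLinearMap), fun m => ?_⟩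
  obtain ⟨l, rfl⟩ := hπ m
  have h1 : eq.symm (π l) = Submodule.Quotient.mk l :=
    eq.symm_apply_eq.2 rfl
  show (Scheme.pointSmallEtale ξ).toPresheafFiber V v F.obj ((LinearMap.ker π).liftQ L₁ hker (eq.symm (π l))) = _
  rw [h1, Submodule.liftQ_apply]
  show (Scheme.pointSmallEtale ξ).toPresheafFiber V v F.obj (F.obj.map g.op (L₀ l)) = _
  rw [(Scheme.pointSmallEtale ξ).toPresheafFiber_w_apply, hgv]
  exact hL₀ l

/-- a constructible sheaf has, near each point, a family inducing the stalks along a constructible set through it -/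
theorem exists_good [IsNoetherianRing Λ] {F : EtModW.Mod Λ X} (hF : EtModW.IsConstructible Λ F) (x : X) :
    ∃ (W : X.Etale) (A : W.left.Opens) (_ : IsAffineOpen A) (p : ↥(A : Set W.left)) (M : ModuleCat.{u + 1} Λ)
      (_ : Module.Finite Λ M) (φ : M ⟶ F.obj.obj (op W)) (Good : Set ↥(A : Set W.left)),
      IsConstructible Good ∧ p ∈ Good ∧ W.hom.base p.1 = x ∧
      ∀ (k : Type u) [Field k] [IsAlgClosed k] (η : Spec (CommRingCat.of k) ⟶ X)
        (z : (Scheme.pointSmallEtale η).fiber.obj W), (∃ a ∈ Good, a.1 = ptOf z) →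
          Function.Bijective (φ ≫ (Scheme.pointSmallEtale η).toPresheafFiber W z F.obj) := by
  obtain ⟨V, hV, hxV, -⟩ := exists_isAffineOpen_mem_and_subset (U := (⊤ : X.Opens)) (x := x) trivial
  obtain ⟨n, E, hE, hEc, hu⟩ := exists_pieces (hF V hV)
  obtain ⟨k₀, hk₀⟩ := Set.mem_iUnion.1 (hu.ge hxV)
  obtain ⟨T, g, hg, hr, hT⟩ := hE k₀
  obtain ⟨t, rfl⟩ : x ∈ Set.range g.base := hr.ge hk₀
  obtain ⟨Ω, _, _, ξT, hξT⟩ := EtModLC71.exists_point t
  obtain ⟨T', u', M, hM, ψ, hψ⟩ := exists_constBy_at hT ξT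
  let ξ := ξT ≫ g
  let i := (sheafFiberPullIso (A := ModuleCat.{u + 1} Λ) g ξT).app F
  obtain ⟨W, w, φ, hφ⟩ := exists_hom_lift ξ
    ((ψ ≫ (Scheme.pointSmallEtale ξT).toPresheafFiber T' u' ((EtModW.pull Λ g).obj F).obj) ≫ i.hom :
      M ⟶ (EtModW.stalk Λ ξ).obj F)
  let G := (EtModW.pull Λ g).obj F
  let φT : M ⟶ G.obj.obj (op ((EtCoh.bc g).obj W)) := φ ≫ ((pullPushMod g).unit.app F).hom.app (op W)
  let wT := (bcFiberEquiv g ξT W).symm w
  have hgerm : ∀ {k : Type u} [Field k] [IsSepClosed k] {η : Spec (CommRingCat.of k) ⟶ T}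
      (zT : (Scheme.pointSmallEtale η).fiber.obj ((EtCoh.bc g).obj W)) (m : M),
      (Scheme.pointSmallEtale η).toPresheafFiber _ zT G.obj (φT m) =
        ((sheafFiberPullIso (A := ModuleCat.{u + 1} Λ) g η).app F).inv
          ((Scheme.pointSmallEtale (η ≫ g)).toPresheafFiber W (bcFiberEquiv g η W zT) F.obj (φ m)) := by
    intro k _ _ η zT m
    exact (ConcreteCategory.congr_hom (sheafFiberPullIso_germ g η F W zT) (φ m)).symm
  have hwT : ∀ m, (Scheme.pointSmallEtale ξT).toPresheafFiber _ wT G.obj (φT m) =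
      (Scheme.pointSmallEtale ξT).toPresheafFiber T' u' G.obj (ψ m) := fun m => by
    rw [hgerm, Equiv.apply_symm_apply, hφ]
    exact ConcreteCategory.congr_hom i.hom_inv_id _
  -- agreement near the point
  obtain ⟨⟨T₂, t₂⟩, ⟨a, ha⟩, ⟨b, hb⟩, -⟩ := IsCofilteredOrEmpty.cone_objs
    ((Scheme.pointSmallEtale ξT).fiber.elementsMk _ wT) ((Scheme.pointSmallEtale ξT).fiber.elementsMk T' u')
  obtain ⟨a', ha'⟩ : ∃ a' : T₂ ⟶ (EtCoh.bc g).obj W, (Scheme.pointSmallEtale ξT).fiber.map a' t₂ = wT := ⟨a, ha⟩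
  obtain ⟨b', hb'⟩ : ∃ b' : T₂ ⟶ T', (Scheme.pointSmallEtale ξT).fiber.map b' t₂ = u' := ⟨b, hb⟩
  obtain ⟨T₃, d, v₃, hd⟩ := exists_eq_nhd (M := M) t₂ (φT ≫ G.obj.map a'.op) (ψ ≫ G.obj.map b'.op) fun m => by
    show (Scheme.pointSmallEtale ξT).toPresheafFiber T₂ t₂ G.obj (G.obj.map a'.op (φT m)) =
      (Scheme.pointSmallEtale ξT).toPresheafFiber T₂ t₂ G.obj (G.obj.map b'.op (ψ m))
    rw [(Scheme.pointSmallEtale ξT).toPresheafFiber_w_apply, (Scheme.pointSmallEtale ξT).toPresheafFiber_w_apply,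
      ha', hb', hwT]
  let c : T₃ ⟶ (EtCoh.bc g).obj W := d ≫ a'
  have hc : ConstBy G (φT ≫ G.obj.map c.op) := by
    have e : φT ≫ G.obj.map c.op = ψ ≫ G.obj.map (d ≫ b').op := by
      rw [op_comp, op_comp, Functor.map_comp, Functor.map_comp, ← Category.assoc, ← Category.assoc]
      exact hd
    rw [e]
    exact hψ.restrict _
  have : AlgebraicGeometry.Etale c.left := etale_left c
  let WT : Scheme.{u} := pullback W.hom g
  let fW : WT ⟶ W.left := pullback.fst W.hom g
  have : IsImmersion fW := MorphismProperty.pullback_fst _ _ hg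
  let cl : T₃.left ⟶ WT := c.left
  have hOopen : IsOpen (Set.range cl.base) := (c.left).isOpenMap.isOpen_range
  obtain ⟨O', hO', hOe⟩ := fW.isEmbedding.isInducing.isOpen_iff.1 hOopen
  have hp : fW.base (cl.base (ptOf v₃)) ∈ (⟨O', hO'⟩ : W.left.Opens) ⊓ W.hom ⁻¹ᵁ V := by
    refine ⟨(Set.ext_iff.1 hOe _).2 ⟨_, rfl⟩, ?_⟩
    show W.hom.base (fW.base (cl.base (ptOf v₃))) ∈ V
    have h1 : W.hom.base (fW.base (cl.base (ptOf v₃))) = g.base (((EtCoh.bc g).obj W).hom.base (cl.base (ptOf v₃))) :=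
      (Scheme.Hom.comp_apply _ _ _).symm.trans ((congrArg (fun r : WT ⟶ X => r.base (cl.base (ptOf v₃)))
        pullback.condition).trans (Scheme.Hom.comp_apply _ _ _))
    have h2 : cl.base (ptOf v₃) = ptOf ((Scheme.pointSmallEtale ξT).fiber.map c v₃) := (ptOf_map c v₃).symm
    rw [h1, h2, hom_ptOf, hξT]
    exact hxV
  obtain ⟨A, hA, hpA, hAle⟩ := exists_isAffineOpen_mem_and_subset hp
  let val : ↥(A : Set W.left) → W.left := Subtype.val
  refine ⟨W, A, hA, ⟨_, hpA⟩, M, hM, φ, val ⁻¹' (W.hom.base ⁻¹' E k₀),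
    EtFound.isConstructible_preimage_affine W.hom hA hV (fun y hy => (hAle hy).2) (hEc k₀), ?_, ?_, ?_⟩
  · show W.hom.base (fW.base (cl.base (ptOf v₃))) ∈ E k₀
    rw [← hr]
    refine ⟨pullback.snd W.hom g |>.base (cl.base (ptOf v₃)), ?_⟩
    exact (Scheme.Hom.comp_apply _ _ _).symm.trans ((congrArg (fun r : WT ⟶ X => r.base (cl.base (ptOf v₃)))
        pullback.condition.symm).trans (Scheme.Hom.comp_apply _ _ _))
  · have h2 : cl.base (ptOf v₃) = ptOf ((Scheme.pointSmallEtale ξT).fiber.map c v₃) := (ptOf_map c v₃).symm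
    show W.hom.base (fW.base (cl.base (ptOf v₃))) = g.base t
    refine (Scheme.Hom.comp_apply _ _ _).symm.trans ((congrArg (fun r : WT ⟶ X => r.base (cl.base (ptOf v₃)))
        pullback.condition).trans ((Scheme.Hom.comp_apply _ _ _).trans (congrArg g.base ?_)))
    show ((EtCoh.bc g).obj W).hom.base (cl.base (ptOf v₃)) = t
    rw [h2, hom_ptOf, hξT]
  · intro k _ _ η z hz
    obtain ⟨⟨_, haA⟩, haE, rfl⟩ := hz
    have hηr : Set.range η.base ⊆ Set.range g.base := by
      rintro _ ⟨y, rfl⟩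
      rw [Subsingleton.elim (α := Spec (CommRingCat.of k)) y default, ← hom_ptOf z, hr]
      exact haE
    obtain ⟨ηT, rfl⟩ := H23.RedSub.exists_lift η g hηr
    let zT := (bcFiberEquiv g ηT W).symm z
    have hfst : fW.base (ptOf zT) = ptOf z := by
      have := congrArg ptOf ((bcFiberEquiv g ηT W).apply_symm_apply z)
      exact (Scheme.Hom.comp_apply _ _ _).symm.trans this
    obtain ⟨q, hq⟩ : ptOf zT ∈ Set.range cl.base := (Set.ext_iff.1 hOe _).1 (show fW.base (ptOf zT) ∈ O' from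
      hfst ▸ (hAle haA).1)
    obtain ⟨v', hv', -⟩ := exists_lift_point c zT q hq
    have hb : Function.Bijective fun m => (Scheme.pointSmallEtale ηT).toPresheafFiber _ zT G.obj (φT m) := by
      refine Eq.mp (congrArg Function.Bijective (funext fun m => ?_)) (hc k ηT v')
      show (Scheme.pointSmallEtale ηT).toPresheafFiber T₃ v' G.obj (G.obj.map c.op (φT m)) = _
      rw [(Scheme.pointSmallEtale ηT).toPresheafFiber_w_apply, hv']
    have hi : Function.Bijective ((sheafFiberPullIso (A := ModuleCat.{u + 1} Λ) g ηT).app F).inv :=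
      (ConcreteCategory.isIso_iff_bijective _).1 inferInstance
    refine (hi.of_comp_iff' _).1 (Eq.mp (congrArg Function.Bijective (funext fun m => ?_)) hb)
    rw [hgerm, Equiv.apply_symm_apply]
    rfl

end Groth.Agent.EtShriekMod
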