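import Groth.Prelude.Def_SixF2
import Groth.Agent.EtShriekMod.Pieces
import Groth.Agent.EtFound.ExtZeroConstr

/-!
# Extensions by zero of constructible sheaves of modules are constructible
-/

universe u

open CategoryTheory CategoryTheory.Limits AlgebraicGeometry Opposite Topology

namespace Groth.Agent.EtShriekMod

set_option backward.isDefEq.respectTransparency.types false

open EtFound EtModLC71

variable {Λ : Type (u + 1)} [CommRing Λ] {U X : Scheme.{u}} (f : U ⟶ X) [AlgebraicGeometry.Etale f]
  [EtShriek.JCont f]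

/-- stalks of extensions by zero are sums over the points -/
theorem bijective_extZero_sum {Ω : Type u} [Field Ω] [IsSepClosed Ω]
    (ξ : Spec (CommRingCat.of Ω) ⟶ X) (F : EtModW.Mod Λ U) {κ : Type*} [Fintype κ] (e : κ → PtsOver f ξ)
    (he : Function.Bijective e) :
    Function.Bijective fun x : (∀ k, (EtModW.stalk Λ (e k).1).obj F) =>
      ∑ k, extZeroι f ξ F (e k) (x k) := by
  classical
  let St : PtsOver f ξ → ModuleCat.{u + 1} Λ := fun z => (EtModW.stalk Λ z.1).obj F
  letI := Fintype.ofBijective e he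
  let hc := extZeroCofanIsColimit f ξ F
  let m := hc.desc (Cofan.mk (ModuleCat.of Λ (∀ z, St z)) fun z =>
    ModuleCat.ofHom (LinearMap.single Λ (fun z => (St z : Type (u + 1))) z))
  have hm : ∀ z (x : St z), m (extZeroι f ξ F z x) = Pi.single z x := fun z x =>
    ConcreteCategory.congr_hom (hc.fac _ ⟨z⟩) x
  let φ : (∀ z, St z) → (EtModW.stalk Λ ξ).obj ((EtSix.extZeroMod Λ f).obj F) := fun x =>
    ∑ z, extZeroι f ξ F z (x z)
  have hφ : Function.Bijective φ := by
    refine ⟨fun x x' h => ?_, fun c => ⟨m c, ?_⟩⟩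
    · have h' := congrArg m h
      simp only [φ, map_sum, hm] at h'
      rwa [Finset.univ_sum_single, Finset.univ_sum_single] at h'
    · have hid : m ≫ ModuleCat.ofHom (∑ z, (extZeroι f ξ F z).hom.comp (LinearMap.proj (R := Λ) (φ := fun z => (St z : Type (u + 1))) z)) = 𝟙 _ := by
        refine hc.hom_ext fun z => ModuleCat.hom_ext (LinearMap.ext fun x => ?_)
        change (∑ z', (extZeroι f ξ F z').hom.comp (LinearMap.proj (R := Λ) (φ := fun z => (St z : Type (u + 1))) z'))
          (m (extZeroι f ξ F z.as x)) = extZeroι f ξ F z.as x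
        rw [hm, LinearMap.sum_apply, Finset.sum_eq_single z.as]
        · simp
        · exact fun b _ hb => by simp [Pi.single_eq_of_ne hb]
        · simp
      have := ConcreteCategory.congr_hom hid c
      simpa [φ] using this
  let E := Equiv.ofBijective e he
  refine Eq.mp (congrArg Function.Bijective (funext fun x => ?_))
    (hφ.comp (Equiv.piCongrLeft (fun z => (St z : Type (u + 1))) E).bijective)
  show ∑ z, _ = _
  rw [← E.sum_comp]
  refine Finset.sum_congr rfl fun k _ => congrArg (extZeroι f ξ F (e k)) ?_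
  exact Equiv.piCongrLeft_apply_apply (fun z => (St z : Type (u + 1))) E x k

/-- extensions by zero of constructible sheaves have constructible pieces through all points -/
theorem exists_piece_extZero [IsNoetherianRing Λ] [QuasiCompact f] [QuasiSeparated f] {F : EtModW.Mod Λ U}
    (hF : EtModW.IsConstructible Λ F) {V : X.Opens} (hV : IsAffineOpen V) (y : X) (hyV : y ∈ V) :
    ∃ E : Set X, y ∈ E ∧ EtModLC71.IsPiece ((EtSix.extZeroMod Λ f).obj F) E ∧
      IsConstructible ((Subtype.val : ↥(V : Set X) → X) ⁻¹' E) := by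
  classical
  obtain ⟨Ω, _, _, ξ, rfl⟩ := EtModLC71.exists_point y
  have := finite_ptsOver f ξ
  haveI := Fintype.ofFinite (PtsOver f ξ)
  choose Wa Aa hAa pa M hM φ Gd hGd hpGd hWp hb using fun a : PtsOver f ξ =>
    exists_good hF (a.1.base (default : Spec (CommRingCat.of Ω)))
  have h0 : ∀ a : PtsOver f ξ, ∃ v : (Scheme.pointSmallEtale a.1).fiber.obj (Wa a), ptOf v = (pa a).1 := fun a => by
    obtain ⟨v, hv⟩ := Scheme.pointSmallEtaleFiberObjToPreimage_surjective a.1 rfl (Wa a) ⟨(pa a).1, hWp a⟩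
    exact ⟨v, congrArg Subtype.val hv⟩
  choose wa hwa using h0
  obtain ⟨⟨W, w⟩, hWw⟩ := IsCofiltered.inf_objs_exists (C := (Scheme.pointSmallEtale ξ).fiber.Elements)
    (Finset.univ.image fun a : PtsOver f ξ =>
      (Scheme.pointSmallEtale ξ).fiber.elementsMk ((EtShriek.compEtale f).obj (Wa a)) (extLiftPt a (Wa a) (wa a)))
  have hr : ∀ a, ∃ r : W ⟶ (EtShriek.compEtale f).obj (Wa a),
      (Scheme.pointSmallEtale ξ).fiber.map r w = extLiftPt a (Wa a) (wa a) := fun a => by
    obtain ⟨g⟩ := hWw (Finset.mem_image_of_mem _ (Finset.mem_univ a))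
    exact ⟨g.1, g.2⟩
  choose r hr using hr
  have : AlgebraicGeometry.Etale W.hom := W.prop
  let rl : ∀ a, W.left ⟶ (Wa a).left := fun a => (r a).left
  let σ : ∀ a, W.left ⟶ U := fun a => rl a ≫ (Wa a).hom
  have hσ : ∀ a, σ a ≫ f = W.hom := fun a => (Category.assoc _ _ _).trans (MorphismProperty.Over.w (r a))
  let wl : Spec (CommRingCat.of Ω) ⟶ W.left := w.left
  have hσw : ∀ a, wl ≫ σ a = a.1 := fun a => by
    refine (Category.assoc _ _ _).symm.trans ?_
    have h := congrArg CommaMorphism.left (hr a)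
    exact (congrArg (· ≫ (Wa a).hom) h).trans (CategoryTheory.Over.w (wa a))
  have hrw : ∀ a, (rl a).base (ptOf w) = (pa a).1 := fun a => by
    refine (ptOf_map (r a) w).symm.trans ?_
    rw [hr a]
    exact hwa a
  -- the sections
  let G := (EtSix.extZeroMod Λ f).obj F
  let l : ∀ a, M a ⟶ G.obj.obj (op W) := fun a =>
    φ a ≫ ((EtSix.extZeroModAdj Λ f).unit.app F).hom.app (op (Wa a)) ≫ G.obj.map (r a).op
  let N : ModuleCat.{u + 1} Λ := ModuleCat.of Λ (∀ a, M a)
  have : ∀ a, Module.Finite Λ (M a) := hM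
  have : Module.Finite Λ N := inferInstanceAs (Module.Finite Λ (∀ a, M a))
  let L : N ⟶ G.obj.obj (op W) :=
    ModuleCat.ofHom (∑ a, (l a).hom.comp (LinearMap.proj (R := Λ) (φ := fun a => (M a : Type (u + 1))) a))
  obtain ⟨A, hA, hwA, hAV⟩ := exists_isAffineOpen_mem_and_subset
    (U := ((W.hom ⁻¹ᵁ V) ⊓ Finset.univ.inf fun a => rl a ⁻¹ᵁ Aa a : W.left.Opens)) (x := ptOf w)
    (by
      refine ⟨show W.hom.base (ptOf w) ∈ V from Set.mem_of_eq_of_mem (hom_ptOf w) hyV, ?_⟩
      rw [SetLike.mem_coe, ← SetLike.mem_coe, TopologicalSpace.Opens.coe_finset_inf]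
      simp only [Finset.inf_eq_iInf, Set.iInf_eq_iInter, Set.mem_iInter]
      intro a _
      show (rl a).base (ptOf w) ∈ Aa a
      rw [hrw]
      exact (pa a).2)
  have hAV' : A ≤ W.hom ⁻¹ᵁ V := fun q hq => (hAV hq).1
  have hAa' : ∀ a, A ≤ rl a ⁻¹ᵁ Aa a := fun a q hq =>
    (Finset.inf_le (f := fun a => rl a ⁻¹ᵁ Aa a) (Finset.mem_univ a) :
      (Finset.univ.inf fun a => rl a ⁻¹ᵁ Aa a) ≤ rl a ⁻¹ᵁ Aa a) (hAV hq).2
  let val : ↥(A : Set W.left) → W.left := Subtype.val
  have : IsAffine A.toScheme := hA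
  have : CompactSpace ↥(A : Set W.left) := isCompact_iff_compactSpace.1 hA.isCompact
  have : QuasiSeparatedSpace ↥(A : Set W.left) :=
    (isQuasiSeparated_iff_quasiSeparatedSpace _ A.2).1 hA.isQuasiSeparated
  have : PrespectralSpace ↥(A : Set W.left) := A.2.isOpenEmbedding_subtypeVal.prespectralSpace
  -- coincidence loci
  let Δ := pullback.diagonal f
  let τ : ∀ _ : {p : PtsOver f ξ × PtsOver f ξ // p.1 ≠ p.2}, W.left ⟶ pullback f f := fun p =>
    pullback.lift (σ p.1.1) (σ p.1.2) ((hσ _).trans (hσ _).symm)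
  have hEc : ∀ p, IsConstructible (val ⁻¹' ((τ p).base ⁻¹' Set.range Δ.base)) := fun p => by
    let t : A.toScheme ⟶ pullback f f := A.ι ≫ τ p
    have : QuasiCompact (pullback.fst t Δ) := MorphismProperty.pullback_fst _ _ (inferInstanceAs (QuasiCompact Δ))
    have : CompactSpace ↥(pullback t Δ) := QuasiCompact.compactSpace_of_compactSpace (pullback.fst t Δ)
    have hc : IsCompact (Set.range (pullback.fst t Δ).base) := isCompact_range (pullback.fst t Δ).continuous
    have he : Set.range (pullback.fst t Δ).base = val ⁻¹' ((τ p).base ⁻¹' Set.range Δ.base) := by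
      rw [Scheme.Pullback.range_fst]
      ext q
      exact Iff.of_eq (congrArg (· ∈ Set.range Δ.base) (Scheme.Hom.comp_apply A.ι (τ p) q))
    rw [he] at hc
    have ho : IsOpen (val ⁻¹' ((τ p).base ⁻¹' Set.range Δ.base)) :=
      (Δ.isOpenEmbedding.isOpen_range.preimage (τ p).continuous).preimage continuous_subtype_val
    exact (IsCompact.isRetrocompact hc ho).isConstructible ho
  -- the covering locus
  let P := pullback W.hom f
  let pr : P ⟶ W.left := pullback.fst W.hom f
  have : AlgebraicGeometry.Etale pr := MorphismProperty.pullback_fst _ _ ‹AlgebraicGeometry.Etale f›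
  have : QuasiCompact pr := MorphismProperty.pullback_fst _ _ ‹QuasiCompact f›
  have : QuasiSeparated pr := MorphismProperty.pullback_fst _ _ ‹QuasiSeparated f›
  let sec : PtsOver f ξ → (W.left ⟶ P) := fun a => pullback.lift (𝟙 _) (σ a) ((Category.id_comp _).trans (hσ a).symm)
  have hsec : ∀ a, sec a ≫ pr = 𝟙 _ := fun a => pullback.lift_fst _ _ _
  have hoi : ∀ a, IsOpenImmersion (sec a) := fun a => by
    have : AlgebraicGeometry.Etale (sec a) := EtCoh.etaleMP.of_postcomp (W' := EtCoh.etaleMP) (sec a) pr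
      (inferInstanceAs (AlgebraicGeometry.Etale pr))
      (show AlgebraicGeometry.Etale (sec a ≫ pr) from (hsec a).symm ▸ inferInstance)
    have : Mono (sec a) := mono_of_mono_fac (hsec a)
    exact IsOpenImmersion.of_flat_of_mono (sec a)
  let bad : Set W.left := pr.base '' (⋃ a, Set.range (sec a).base)ᶜ
  have hbad : IsConstructible (val ⁻¹' bad) := by
    refine isConstructible_image_over' pr hA ?_
    let O := pr ⁻¹ᵁ A
    have : CompactSpace ↥(O : Set P) := isCompact_iff_compactSpace.1 (pr.isCompact_preimage hA.isCompact)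
    have : QuasiSeparatedSpace ↥(O : Set P) :=
      quasiSeparatedSpace_of_quasiSeparated (pr ∣_ A)
    have : PrespectralSpace ↥(O : Set P) := O.2.isOpenEmbedding_subtypeVal.prespectralSpace
    rw [Set.preimage_compl, Set.preimage_iUnion]
    refine (IsConstructible.iUnion fun a => ?_).compl
    have := hoi a
    have e : (Subtype.val : ↥(O : Set P) → P) ⁻¹' Set.range (sec a).base =
        Subtype.val ⁻¹' ((sec a).base '' (A : Set W.left)) := by
      ext q
      refine ⟨?_, fun ⟨x, _, hx⟩ => ⟨x, hx⟩⟩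
      rintro ⟨x, hx⟩
      refine ⟨x, ?_, hx⟩
      have h1 : pr.base q.1 ∈ A := q.2
      rw [← hx, ← Scheme.Hom.comp_apply, hsec a] at h1
      exact h1
    rw [e]
    have ho : IsOpen ((Subtype.val : ↥(O : Set P) → P) ⁻¹' ((sec a).base '' (A : Set W.left))) :=
      ((sec a).isOpenEmbedding.isOpenMap _ A.2).preimage continuous_subtype_val
    refine (IsCompact.isRetrocompact ?_ ho).isConstructible ho
    rw [IsInducing.subtypeVal.isCompact_iff, Set.image_preimage_eq_of_subset]
    · exact hA.isCompact.image (sec a).continuous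
    · rintro _ ⟨x, hx, rfl⟩
      refine ⟨⟨(sec a).base x, ?_⟩, rfl⟩
      show pr.base ((sec a).base x) ∈ A
      rw [← Scheme.Hom.comp_apply, hsec a]
      exact hx
  let K : PtsOver f ξ → Set ↥(A : Set W.left) := fun a => val ⁻¹' ((rl a).base ⁻¹' (Subtype.val '' Gd a))
  have hK : ∀ a, IsConstructible (K a) := fun a => by
    refine isConstructible_preimage_affine (rl a) hA (hAa a) (hAa' a) ?_
    rw [Set.preimage_image_eq _ Subtype.val_injective]
    exact hGd a
  let Good : Set ↥(A : Set W.left) :=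
    ((⋂ p, (val ⁻¹' ((τ p).base ⁻¹' Set.range Δ.base))ᶜ) ∩ (val ⁻¹' bad)ᶜ) ∩ ⋂ a, K a
  refine exists_piece_of_good hV w hA hAV' hwA L (Good := Good)
    (((IsConstructible.iInter fun p => (hEc p).compl).inter hbad.compl).inter (IsConstructible.iInter hK)) ?_ ?_
  · refine ⟨⟨Set.mem_iInter.2 fun p => ?_, ?_⟩, Set.mem_iInter.2 fun a => ⟨pa a, hpGd a, (hrw a).symm⟩⟩
    · intro hq
      refine p.2 (Subtype.ext ?_)
      obtain ⟨l, hl⟩ : ∃ l : Spec (CommRingCat.of Ω) ⟶ U, l ≫ Δ = wl ≫ τ p := by
        refine ⟨IsOpenImmersion.lift Δ (wl ≫ τ p) ?_, IsOpenImmersion.lift_fac _ _ _⟩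
        rintro _ ⟨x, rfl⟩
        rw [Subsingleton.elim (α := Spec (CommRingCat.of Ω)) x default, Scheme.Hom.comp_apply]
        exact hq
      have h1 := congrArg (· ≫ pullback.fst f f) hl
      have h2 := congrArg (· ≫ pullback.snd f f) hl
      simp only [Category.assoc, Δ, τ, pullback.diagonal_fst, pullback.diagonal_snd, Category.comp_id,
        pullback.lift_fst, pullback.lift_snd] at h1 h2
      exact (hσw _).symm.trans (h1.symm.trans (h2.trans (hσw _)))
    · rintro ⟨q, hq, hqw⟩
      let P' : W.left.Etale := Scheme.Etale.mk pr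
      obtain ⟨v, hv⟩ := Scheme.pointSmallEtaleFiberObjToPreimage_surjective wl rfl P' ⟨q, hqw⟩
      let vl : Spec (CommRingCat.of Ω) ⟶ P := v.left
      have hvfst : vl ≫ pr = wl := CategoryTheory.Over.w v
      have hvq : vl.base (default : Spec (CommRingCat.of Ω)) = q := congrArg Subtype.val hv
      have hsnd : (vl ≫ pullback.snd W.hom f) ≫ f = ξ := (Category.assoc _ _ _).trans
        ((congrArg (vl ≫ ·) pullback.condition.symm).trans ((Category.assoc _ _ _).symm.trans
          ((congrArg (· ≫ W.hom) hvfst).trans (CategoryTheory.Over.w w))))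
      let a : PtsOver f ξ := ⟨_, hsnd⟩
      have e : vl = wl ≫ sec a := pullback.hom_ext
        (hvfst.trans (((congrArg (wl ≫ ·) (hsec a)).trans (Category.comp_id _)).symm.trans (Category.assoc _ _ _).symm))
        ((hσw a).symm.trans ((congrArg (wl ≫ ·) (pullback.lift_snd _ _ _).symm).trans (Category.assoc _ _ _).symm))
      refine hq (Set.mem_iUnion.2 ⟨a, wl.base default, ?_⟩)
      rw [← Scheme.Hom.comp_apply, ← e]
      exact hvq
  intro k _ _ η z ⟨q, ⟨⟨hqE, hqB⟩, hqK⟩, hqz⟩
  let zl : Spec (CommRingCat.of k) ⟶ W.left := z.left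
  let v : ∀ a, (Scheme.pointSmallEtale η).fiber.obj ((EtShriek.compEtale f).obj (Wa a)) := fun a =>
    (Scheme.pointSmallEtale η).fiber.map (r a) z
  let Y : PtsOver f ξ → PtsOver f η := fun a => projPt (Wa a) (v a)
  have hYv : ∀ a, (Y a).1 = zl ≫ σ a := fun a => Category.assoc zl _ _
  have hY : Function.Bijective Y := by
    refine ⟨fun a b hab => by_contra fun hne => Set.mem_iInter.1 hqE ⟨(a, b), hne⟩ ?_, fun y' => ?_⟩
    · have e : zl ≫ σ a = zl ≫ σ b := (hYv a).symm.trans ((congrArg Subtype.val hab).trans (hYv b))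
      have e' : zl ≫ τ ⟨(a, b), hne⟩ = (zl ≫ σ a) ≫ Δ := pullback.hom_ext
        ((Category.assoc _ _ _).trans ((congrArg (zl ≫ ·) (pullback.lift_fst _ _ _)).trans
          (((congrArg ((zl ≫ σ a) ≫ ·) (pullback.diagonal_fst f)).trans (Category.comp_id _)).symm.trans
            (Category.assoc _ _ _).symm)))
        ((Category.assoc _ _ _).trans ((congrArg (zl ≫ ·) (pullback.lift_snd _ _ _)).trans
          (e.symm.trans (((congrArg ((zl ≫ σ a) ≫ ·) (pullback.diagonal_snd f)).trans (Category.comp_id _)).symm.trans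
            (Category.assoc _ _ _).symm))))
      refine ⟨(zl ≫ σ a).base (default : Spec (CommRingCat.of k)), ?_⟩
      show Δ.base _ = (τ _).base (val q)
      rw [← Scheme.Hom.comp_apply, ← e']
      exact (Scheme.Hom.comp_apply _ _ _).trans (congrArg (τ _).base hqz.symm)
    · let Mm : Spec (CommRingCat.of k) ⟶ P := pullback.lift zl y'.1 ((CategoryTheory.Over.w z).trans y'.2.symm)
      have hMm : Mm.base (default : Spec (CommRingCat.of k)) ∈ ⋃ a, Set.range (sec a).base := by
        by_contra h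
        refine hqB ⟨_, h, ?_⟩
        exact (Scheme.Hom.comp_apply _ _ _).symm.trans ((congrArg (fun r : Spec (CommRingCat.of k) ⟶ W.left =>
          r.base (default : Spec (CommRingCat.of k))) (pullback.lift_fst _ _ _)).trans hqz.symm)
      obtain ⟨a, ha⟩ := Set.mem_iUnion.1 hMm
      have := hoi a
      have hr : Set.range Mm.base ⊆ Set.range (sec a).base := by
        rintro _ ⟨x, rfl⟩
        rw [Subsingleton.elim (α := Spec (CommRingCat.of k)) x default]
        exact ha
      have h1 := IsOpenImmersion.lift_fac (sec a) Mm hr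
      have h2 := congrArg (· ≫ pr) h1
      simp only [Category.assoc, hsec, Category.comp_id] at h2
      have h3 : IsOpenImmersion.lift (sec a) Mm hr = zl := h2.trans (pullback.lift_fst _ _ _)
      rw [h3] at h1
      refine ⟨a, Subtype.ext ((hYv a).trans ?_)⟩
      exact (((congrArg (zl ≫ ·) (pullback.lift_snd _ _ _).symm).trans (Category.assoc _ _ _).symm).trans
        (congrArg (· ≫ pullback.snd W.hom f) h1)).trans (pullback.lift_snd _ _ _)
  haveI := Fintype.ofBijective Y hY
  let g : ∀ a, M a ⟶ (EtModW.stalk Λ (Y a).1).obj F := fun a =>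
    φ a ≫ (Scheme.pointSmallEtale (Y a).1).toPresheafFiber (Wa a) (projElt (Wa a) (v a)) F.obj
  have hg1 : ∀ a, Function.Bijective (g a) := fun a => by
    obtain ⟨b, hb', hbe⟩ := Set.mem_iInter.1 hqK a
    refine hb a k (Y a).1 (projElt (Wa a) (v a)) ⟨b, hb', hbe.trans ?_⟩
    exact ((congrArg (rl a).base hqz).trans (ptOf_map (r a) z).symm)
  have hg : Function.Bijective fun c : (∀ a, M a) => fun a => g a (c a) :=
    ⟨fun c c' h => funext fun a => (hg1 a).1 (congrFun h a), fun x => by
      choose c hc using fun a => (hg1 a).2 (x a)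
      exact ⟨c, funext hc⟩⟩
  have hL : ∀ a (s : M a), (Scheme.pointSmallEtale η).toPresheafFiber W z G.obj (l a s) =
      extZeroι f η F (Y a) (g a s) := fun a s => by
    refine ((Scheme.pointSmallEtale η).toPresheafFiber_w_apply (r a) z G.obj _).trans ?_
    refine Eq.trans ?_ (ConcreteCategory.congr_hom (extZeroι_germ f η F (Y a) (Wa a) (projElt (Wa a) (v a))) (φ a s)).symm
    show _ = (Scheme.pointSmallEtale η).toPresheafFiber _ (extLiftPt (Y a) (Wa a) (projElt (Wa a) (v a))) G.obj _
    rw [extLiftPt_projElt]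
    rfl
  refine Eq.mp (congrArg Function.Bijective (funext fun c => ?_)) ((bijective_extZero_sum f η F Y hY).comp hg)
  show ∑ a, _ = (Scheme.pointSmallEtale η).toPresheafFiber W z G.obj (L c)
  show _ = (Scheme.pointSmallEtale η).toPresheafFiber W z G.obj
    ((∑ a, (l a).hom.comp (LinearMap.proj (R := Λ) (φ := fun a => (M a : Type (u + 1))) a)) c)
  rw [LinearMap.sum_apply, map_sum]
  exact Finset.sum_congr rfl fun a _ => (hL a (c a)).symm

/-- extensions by zero of constructible sheaves along quasi-compact quasi-separated etale morphisms -/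
theorem isConstructible_extZeroMod [IsNoetherianRing Λ] [QuasiCompact f] [QuasiSeparated f] {F : EtModW.Mod Λ U}
    (hF : EtModW.IsConstructible Λ F) : EtModW.IsConstructible Λ ((EtSix.extZeroMod Λ f).obj F) :=
  isConstructible_of_pieces fun _ hV y hy => exists_piece_extZero f hF hV y hy

end Groth.Agent.EtShriekMod
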