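import Mathlib.Algebra.Homology.DerivedCategory.ExactFunctor
import Mathlib.Algebra.Homology.DerivedCategory.HomologySequence
import Mathlib.Algebra.Homology.ShortComplex.PreservesHomology

/-! exact functors commute with cohomology objects in the derived category -/

universe w v u v' u' w'

open CategoryTheory CategoryTheory.Limits

namespace Groth.Agent.EtShriekMod

variable {A : Type u} [Category.{v} A] [Abelian A] {B : Type u'} [Category.{v'} B] [Abelian B]
  [HasDerivedCategory.{w} A] [HasDerivedCategory.{w'} B]

theorem nonempty_homology_mapDerivedCategory (F : A ⥤ B) [F.Additive] [PreservesFiniteLimits F]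
    [PreservesFiniteColimits F] (K : DerivedCategory A) (i : ℤ) :
    Nonempty ((DerivedCategory.homologyFunctor B i).obj (F.mapDerivedCategory.obj K) ≅
      F.obj ((DerivedCategory.homologyFunctor A i).obj K)) := by
  obtain ⟨L, ⟨e⟩⟩ : ∃ L : CochainComplex A ℤ, Nonempty (DerivedCategory.Q.obj L ≅ K) :=
    ⟨_, ⟨DerivedCategory.Q.objObjPreimageIso K⟩⟩
  exact ⟨(F.mapDerivedCategory ⋙ DerivedCategory.homologyFunctor B i).mapIso e.symm ≪≫
    (DerivedCategory.homologyFunctor B i).mapIso (F.mapDerivedCategoryFactors.app L) ≪≫
    (DerivedCategory.homologyFunctorFactors B i).app _ ≪≫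
    (HomologicalComplex.sc L i).mapHomologyIso F ≪≫
    F.mapIso ((DerivedCategory.homologyFunctorFactors A i).symm.app L ≪≫
      (DerivedCategory.homologyFunctor A i).mapIso e)⟩

end Groth.Agent.EtShriekMod
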